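import Cfsg.Agent.BZ.D3.DL
import Cfsg.Agent.BZ.D3.Two
import Cfsg.Agent.BZ.D.Main
import Cfsg.Agent.KM.A.Main
import Cfsg.Agent.KM.Sc.E3
import Cfsg.Agent.RC.D1
import Cfsg.Agent.TO.DC.Lie
import Cfsg.Agent.H905.PCover
import Cfsg.Agent.H60.CrossA
import Cfsg.Agent.H61.PSUMult
import Cfsg.Agent.ClassicalGeometry.GUBasic
import Cfsg.Agent.ClassicalGeometry.HermParabolic
import Cfsg.Agent.S2093
import Cfsg.Agent.S2095
import Cfsg.Agent.S2098
import Cfsg.Agent.S2100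
import Cfsg.Agent.S2101
import Cfsg.Agent.S2102
import Cfsg.Agent.S2103
import Cfsg.Agent.S2104
import Cfsg.Agent.S2105
import Cfsg.Agent.S2106
import Cfsg.Agent.S2107
import Cfsg.Agent.S2108
import Cfsg.Agent.S2109
import Cfsg.Agent.S2110

/-!
# BZ, defining characteristic, two degrees: the rows (helper48)

`lieT : For RowT CLie`.
-/

set_option autoImplicit false
set_option linter.unusedSectionVars false

namespace Cfsg.Agent.BZ.D3

open Cfsg Subgroup Cfsg.Agent.DL Cfsg.Agent.KM.Mu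
open Cfsg.Agent.KM.BD (card_cyc)

variable {p : ℕ} [hp : Fact p.Prime]

section gen

variable {S G G' L : Type} [Group S] [Group G] [Group G'] [Group L] {ι : L →* G} {π : L →* S} {m j m' j' : ℕ}

theorem Two.mono' (h : Two p S m j) (hm : ∀ r : ℕ, r.Prime → r ∣ m' → r ∣ m) (hj : ∀ r : ℕ, r.Prime → r ∣ j' → r ∣ j) :
    Two p S m' j' := by
  obtain ⟨r, s, a, b, c, d, f, g, h, i, k, l, n⟩ := h
  exact ⟨r, s, a, b, c, d, f, g, h, i, k, fun e => l (hm r a e), fun e => n (hj s b e)⟩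

theorem Fm.comp (F : Fm ι π m j) (e : G ≃* G') : Fm (e.toMonoidHom.comp ι) π m j where
  inj := e.injective.comp F.inj
  nrm := by rw [MonoidHom.range_comp]; exact F.nrm.map _ e.surjective
  surj := F.surj
  ker l := (F.ker l).trans (MulEquivClass.apply_mem_center_iff e).symm
  hm := by rw [MonoidHom.range_comp, MulEquiv.toMonoidHom_eq_coe, index_map_equiv]; exact F.hm
  hj := by
    have h : center G' = (center G).map (e : G →* G') := by
      rw [map_equiv_eq_comap_symm]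
      exact Subgroup.ext fun x => (MulEquivClass.apply_mem_center_iff e.symm).symm
    rw [MonoidHom.range_comp, h, MulEquiv.toMonoidHom_eq_coe, ← Subgroup.map_sup, index_map_equiv]
    exact F.hj

/-- the covers of the rows are quotients of `L` -/
def Cv (p : ℕ) (π : L →* S) : Prop :=
  ∀ (K : Type) [Group K] [Finite K] (σ : K →* S) (M : Ideal AlgInt) (B : Set (IrrCharacter K)) (D : Subgroup K),
    Hyp p M B D σ → ∃ ψ : L →* K, Function.Surjective ψ ∧ ∀ l, σ (ψ l) = π l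

theorem row_one (hS : IsLieTypeChar p S) {A : Type} [CommGroup A] (hA : HasSchurMultiplier S A) {a : ℕ}
    (h : Nat.card A ∣ p ^ a) : RowT p S := fun _ _ _ _ _ _ _ H =>
  xt_one H (D.rt H hS) (card_eq_one.1 (Nat.eq_one_of_dvd_coprimes ((hp.out.coprime_iff_not_dvd.2 H.zp).pow_left a)
    ((D.cen_dvd H hA).trans h) dvd_rfl))

theorem row_cyc (hS : IsLieTypeChar p S) {n : ℕ} (hA : HasCyclicSchurMultiplier S n) (h : n = 1 ∨ n = p) : RowT p S :=
  row_one hS hA (a := 1) (by rcases h with rfl | rfl <;> simp)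

theorem row_fm [Finite G] (hS : IsLieTypeChar p S) (X : DLo p G) (F : Fm ι π m j) (hm : ¬ p ∣ m) (hj : ¬ p ∣ j)
    (hc : Cv p π) (h2 : π.ker ≠ ⊥ → Two p S m j) : RowT p S := fun K _ _ σ M B E H => by
  obtain ⟨ψ, h3, h4⟩ := hc K σ M B E H
  by_cases h : π.ker = ⊥
  · refine xt_one H (D.rt H hS) (eq_bot_iff.2 fun z hz => ?_)
    obtain ⟨l, rfl⟩ := h3 z
    rw [mem_bot.1 (h.le ((h4 l).symm.trans (H.ker.ge hz))), map_one]
    exact one_mem _
  · exact xt_of H (D.rt H hS) X F hm hj h3 h4 (h2 h)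

theorem row_sc {k : Type} [Field k] [CharP k p] {Y : Type} [Group Y] {N : Type} [Fintype N] [DecidableEq N]
    {ρ : Y →* GL N k} {F : MulAut Y} {G : Subgroup Y} [IsAlgClosed k] {X : Datum p ρ F G} (hS : IsLieTypeChar p S)
    (s : KM.Sc X S) {A : Type} [CommGroup A] (hA : HasSchurMultiplier S A) (h : Nat.card A ∣ 12) (h2 : Two p S 12 1) :
    RowT p S := by
  have := X.amb.finite_GF G
  obtain ⟨T, -, h3, h4, -⟩ := (dlo s.qs s.pi1).tw 1 (by rw [orderOf_one, Nat.dvd_one]; exact hp.out.one_lt.ne')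
  have h5 : (MonoidHom.id (GF F G)).range = ⊤ := MonoidHom.range_eq_top.2 Function.surjective_id
  exact row_fm hS (dlo s.qs s.pi1) (ι := MonoidHom.id _) (π := s.π) (m := Nat.card s.π.ker) (j := 1)
    ⟨Function.injective_id, h5 ▸ inferInstance, s.surj, fun l => SetLike.ext_iff.1 s.ker l,
      by rw [h5, index_top, one_mul], by rw [h5, top_sup_eq, index_top]⟩
    (fun e => h4 (e.trans (card_dvd_of_le (s.ker ▸ h3)))) (hp.out.one_lt.ne' ∘ Nat.dvd_one.1)
    (fun K _ _ σ M B D H => s.cov K H.qs H.zp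
      ((QuotientGroup.quotientMulEquivOfEq H.ker.symm).trans (QuotientGroup.quotientKerEquivOfSurjective σ H.surj)))
    fun _ => h2.mono ((H95.StemCover.card_ker_dvd hA s.perf s.π s.surj s.ker.le).trans h) dvd_rfl

theorem dvd_of_index [Finite G] {N : Subgroup G} [N.Normal] {n s : ℕ} (h : ∀ g, g ^ n ∈ N) (hs : s.Prime)
    (h1 : s ∣ N.index) : s ∣ n := by
  have := Fact.mk hs
  obtain ⟨x, hx⟩ := exists_prime_orderOf_dvd_card' (G := G ⧸ N) s h1
  obtain ⟨x, rfl⟩ := QuotientGroup.mk_surjective x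
  exact hx ▸ orderOf_dvd_of_pow_eq_one (by rw [← QuotientGroup.mk_pow, QuotientGroup.eq_one_iff]; exact h x)

/-- `L` is the kernel of a determinant -/
theorem row_det [Finite G'] (hS : IsLieTypeChar p (L ⧸ center L)) (e : G ≃* G') (X : DLo p G') {A : Type} [CommGroup A]
    (δ : G →* A) (hι : Function.Injective ι) (hr : ι.range = δ.ker) {d n : ℕ} (h1 : ∀ g, δ g ^ d = 1)
    (h2 : ∀ g, ∃ z ∈ center G, δ z = δ g ^ n) (h3 : ∀ l ∈ center L, ι l ∈ center G)
    (h4 : Nat.card (center L) = Nat.gcd n d) (hd : ¬ p ∣ d) (hc : Cv p (QuotientGroup.mk' (center L)))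
    (h5 : Nat.gcd n d ≠ 1 → Two p (L ⧸ center L) d (Nat.gcd n d)) : RowT p (L ⧸ center L) := by
  have := Finite.of_equiv _ e.symm.toEquiv
  have : ι.range.Normal := hr ▸ inferInstance
  have h6 : ∀ g, g ^ d ∈ ι.range := fun g => by rw [hr, MonoidHom.mem_ker, map_pow, h1]
  have h7 : ∀ r : ℕ, r.Prime → r ∣ ι.range.index * Nat.card (QuotientGroup.mk' (center L)).ker → r ∣ d := fun r hr h =>
    (hr.dvd_mul.1 h).elim (dvd_of_index h6 hr) fun h => by
      rw [QuotientGroup.ker_mk', h4] at h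
      exact h.trans (Nat.gcd_dvd_right _ _)
  have h8 : ∀ r : ℕ, r.Prime → r ∣ (ι.range ⊔ center G).index → r ∣ Nat.gcd n d := fun r hr' h =>
    Nat.dvd_gcd (dvd_of_index (fun g => by
      obtain ⟨z, a1, a2⟩ := h2 g
      rw [← inv_mul_cancel_right (g ^ n) z]
      exact mul_mem_sup (by rw [hr, MonoidHom.mem_ker, map_mul, map_inv, a2, map_pow, mul_inv_cancel]) a1) hr' h)
      (dvd_of_index (fun g => mem_sup_left (h6 g)) hr' h)
  refine row_fm hS X (Fm.comp ⟨hι, this, QuotientGroup.mk'_surjective _, fun l => (QuotientGroup.eq_one_iff l).trans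
    ⟨h3 l, fun h => mem_center_iff.2 fun g => hι (by rw [map_mul, map_mul, mem_center_iff.1 h])⟩, dvd_rfl, dvd_rfl⟩ e)
    (fun h => hd (h7 p hp.out h)) (fun h => hd ((h8 p hp.out h).trans (Nat.gcd_dvd_right _ _))) hc
    fun h => (h5 fun h9 => h ?_).mono' h7 h8
  rw [QuotientGroup.ker_mk', ← card_eq_one, h4, h9]

theorem cv_of [Finite L] (hL : commutator L = ⊤) (hN : ∀ r : ℕ, r.Prime → r ≠ p → H67.NoPCov r L) :
    Cv p (QuotientGroup.mk' (center L)) := fun K _ _ σ M B D H => by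
  obtain ⟨θ, h1, h2⟩ := H905.PCover.exists_hom_of_noPCov hL hN (QuotientGroup.mk'_surjective _)
    (QuotientGroup.ker_mk' _).le H.qs.1.commutator_eq_top H.surj H.ker.le hp.out
    (H.ker ▸ (hp.out.coprime_iff_not_dvd.2 H.zp).symm)
  exact ⟨θ, h1, DFunLike.congr_fun h2⟩

end gen

variable {F : Type} [Field F] [Fintype F] [CharP F p]

section AC

open Matrix Cfsg.Agent.KZ.Dat Cfsg.Agent.ODD.C2 Cfsg.Agent.ODD.C2.GlA

theorem row_psl2 : RowT p (ProjectiveSpecialLinearGroup (Fin 2) F) := fun K _ _ σ M B D H _ =>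
  H.nab (BHZ.Spor.comm_of_map_comm H.pg σ H.ker.le (e := Nat.card (center K))
    (fun n hn => congrArg Subtype.val (pow_card_eq_one' (x := (⟨n, H.ker.le hn⟩ : center K)))) H.zp
    ⟨⟨fun a b => Subtype.ext (mem_centralizer_iff.1 (TO.DC.psl2_comm (H.pg.map σ) b.2) a a.2)⟩⟩)

theorem row_psl {n : ℕ} (hn : 3 ≤ n) (hS : IsLieTypeChar p (ProjectiveSpecialLinearGroup (Fin n) F)) :
    RowT p (ProjectiveSpecialLinearGroup (Fin n) F) := by
  obtain ⟨n, rfl⟩ : ∃ m, n = m + 1 := ⟨n - 1, by omega⟩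
  obtain ⟨k, _, _, _, hk, e, he, f, hF⟩ := hasC p F
  have := (datL n hk he).amb.finite_GF (GA n k)
  refine row_det hS (eqvL f hF) (dlo (datL_qs n hk he) (KM.A.pi1_A hk he _)) GeneralLinearGroup.det
    SpecialLinearGroup.toGL_injective (KM.A.range_SL _) (d := Fintype.card F - 1) (n := n + 1) (fun g => ?_)
    (fun g => ⟨GeneralLinearGroup.scalar _ (GeneralLinearGroup.det g),
      GeneralLinearGroup.center_eq_range_scalar.ge ⟨_, rfl⟩, Units.ext ?_⟩)
    (fun l => (SpecialLinearGroup.toGL_mem_center_iff l).2) (S0280.card_center_SL n.succ_pos)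
    (by simpa using nd_sub hp.out (pq p F) Fintype.card_pos one_ne_zero)
    (cv_of (S0248.result _ hn) fun r => H60.CrossA.noPCov_SL_cross n p) fun h => ?_
  · classical
    rw [← Fintype.card_units, pow_card_eq_one]
  · simp [GeneralLinearGroup.scalar]
  · simpa [H403.NumTop.AA] using two_lin (L := ProjectiveSpecialLinearGroup (Fin (n + 1)) F) (e := true) (F := F)
      ⟨MulEquiv.refl _⟩ (pow_one _).symm hp.out (pq p F) hn (by simp) (by simpa [H403.NumTop.AA] using h)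

open Cfsg.Agent.ClassicalGeometry in
theorem row_psu {n q : ℕ} (hq : Fintype.card F = q ^ 2) (hn : 3 ≤ n) (h3 : ¬ (n = 3 ∧ q = 2))
    (hS : IsLieTypeChar p (PSU n F q)) : RowT p (PSU n F q) := by
  obtain ⟨n, rfl⟩ : ∃ m, n = m + 1 := ⟨n - 1, by omega⟩
  obtain ⟨k, _, _, _, hk, d, hd, f, hF⟩ := hasC p F
  have h5 : p ∣ q := hp.out.dvd_of_dvd_pow (hq ▸ pq p F)
  obtain ⟨e, -, rfl⟩ := (Nat.dvd_prime_pow hp.out).1 (hF ▸ hq ▸ dvd_pow_self q two_ne_zero : q ∣ p ^ d)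
  have he : 0 < e := Nat.pos_of_ne_zero (by rintro rfl; exact hp.out.one_lt.ne' (Nat.dvd_one.1 h5))
  have := (datU n hk he).amb.finite_GF (GA n k)
  refine row_det hS (eqvU f hk he hq) (dlo (datU_qs n hk he) (KM.A.pi1_A hk he _))
    (GeneralLinearGroup.det.comp (GU (n + 1) F (p ^ e)).subtype)
    (ι := (SpecialLinearGroup.toGL.comp (SU (n + 1) F (p ^ e)).subtype).codRestrict _ fun y => y.2)
    (fun a b h => Subtype.ext (SpecialLinearGroup.toGL_injective (congrArg Subtype.val h))) ?_ (d := p ^ e + 1) (n := n + 1)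
    (HermParabolic.det_GU_pow hq)
    (fun g => ⟨_, GUBasic.guDiag_const_mem_center (p ^ e) (GeneralLinearGroup.det g.1).1
      (congrArg Units.val (HermParabolic.det_GU_pow hq g)), Units.ext ?_⟩) (fun y hy => ?_) (S0279.result hq _ hn)
    (by simpa using nd_add hp.out h5 one_ne_zero)
    (cv_of (LieClassical.HermPerfect.commutator_SU_eq_top hq hn h3) fun r => H61.PSUMult.noPCov_cross hq hn hp.out)
    fun h => ?_
  · ext g
    exact ⟨fun ⟨y, hy⟩ => hy ▸ Units.ext y.1.2, fun h => ⟨⟨⟨g.1, congrArg Units.val h⟩, g.2⟩, Subtype.ext (Units.ext rfl)⟩⟩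
  · simp [GUBasic.guDiag]
  · obtain ⟨c, h1, h2, rfl⟩ := (LieClassical.SUBasic.mem_center_SU_iff hq hn y).1 hy
    convert GUBasic.guDiag_const_mem_center (n := n + 1) (p ^ e) c h2 using 1
    exact Subtype.ext (Units.ext rfl)
  · simpa [H403.NumTop.AA] using two_lin (L := PSU (n + 1) F (p ^ e)) (e := false) (F := F)
      ⟨MulEquiv.refl _⟩ hq hp.out h5 hn (fun h => h3 h.2) (by simpa [H403.NumTop.AA] using h)

theorem odd_card (h : p ≠ 2) : Odd (Fintype.card F) := by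
  obtain ⟨f, -, hf⟩ := FiniteField.card F p
  exact hf ▸ (hp.out.odd_of_ne_two h).pow

open Cfsg.Agent.Nodes.TypeC Cfsg.Agent.KM.ScC in
theorem row_psp {m : ℕ} (hm : 2 ≤ m) (h2 : m = 2 → 3 ≤ Fintype.card F) (hS : IsLieTypeChar p (PSp m F)) :
    RowT p (PSp m F) := by
  by_cases h : m = 3 ∧ Fintype.card F = 2
  · obtain ⟨rfl, h⟩ := h
    exact row_cyc hS (S2093.result h) (.inr ((Nat.prime_dvd_prime_iff_eq hp.out Nat.prime_two).1 (h ▸ pq p F)).symm)
  have hA := S2092.result rfl m hm h2 h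
  by_cases h3 : p = 2
  · exact row_one hS hA (a := 1) (by rw [card_cyc, h3]; exact Nat.gcd_dvd_left _ _)
  obtain ⟨k, _, _, _, hk, e, he, f, hF⟩ := hasC p F
  have := (datC m hk he).amb.finite_GF (GC m k)
  have := Finite.of_equiv _ (eqvC (n := m) f hF).symm.toEquiv
  have h4 : Nat.card (center (symplecticGroup (Fin m) F)) = Nat.gcd 2 (Fintype.card F - 1) :=
    LieClassical.SympCenter.card_center (by omega)
  have h5 : ¬ p ∣ 2 := fun h => h3 ((Nat.prime_dvd_prime_iff_eq hp.out Nat.prime_two).1 h)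
  have h6 : (MonoidHom.id (symplecticGroup (Fin m) F)).range = ⊤ := MonoidHom.range_eq_top.2 Function.surjective_id
  have h7 := S0269.result (F := F) m (by omega)
  refine row_fm hS (dlo (datC_qs hk he) (pi1C hk he)) (Fm.comp (ι := MonoidHom.id _) (m := 2) (j := 1)
    ⟨Function.injective_id, h6 ▸ inferInstance, QuotientGroup.mk'_surjective _, fun l => QuotientGroup.eq_one_iff l,
      by rw [h6, index_top, one_mul, QuotientGroup.ker_mk', h4]; exact Nat.gcd_dvd_left _ _,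
      by rw [h6, top_sup_eq, index_top]⟩ (eqvC f hF)) h5 (hp.out.one_lt.ne' ∘ Nat.dvd_one.1)
    (fun K _ _ σ M B E H => KM.cover_of_mult (l := p) (a := 0) ?_ hA
      (H95.StemCover.isStem h7 (QuotientGroup.mk'_surjective _) (QuotientGroup.ker_mk' _).le)
      (H95.StemCover.isStem H.qs.1.commutator_eq_top H.surj H.ker.le) ?_ (H.ker ▸ H.zp) ?_)
    fun _ => (two_psp (odd_card h3) hm).mono (by decide) dvd_rfl
  · rw [_root_.commutator_def, ← MonoidHom.range_eq_top.2 H.surj, MonoidHom.range_eq_map, ← Subgroup.map_commutator,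
      ← _root_.commutator_def, H.qs.1.commutator_eq_top]
  · rw [QuotientGroup.ker_mk', h4]
    exact fun h => h5 (h.trans (Nat.gcd_dvd_left _ _))
  · rw [QuotientGroup.ker_mk', h4, card_cyc, pow_zero, mul_one]

end AC

section BD

open Cfsg.Agent.LangThm Matrix Sum Cfsg.Agent.TwoF.DC Cfsg.Agent.TwoF.DC.TC Cfsg.Agent.TwoF.DC.TBD
  Cfsg.Agent.TwoF.DC.TBD.Cl Cfsg.Agent.KM.BD Cfsg.Agent.KM

theorem row_cd {m : ℕ} {Φ : Type} [Fintype Φ] [DecidableEq Φ] (C : CD m Φ) {k : Type} [Field k] [IsAlgClosed k]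
    [CharP k p] (lf : ∀ a : k, ∃ m, 0 < m ∧ a ^ p ^ m = a) (h2 : (∃ b, C.ib b = inl ()) → (2 : k) ≠ 0)
    (P : Tws (C.rdat k p h2)) (hP : P.Fr = C.fr (frobenius k p)) (hF : (C.rdat k p h2).Fa) {S : Type} [Group S]
    (hS : IsSimpleGroup S) (hn : ¬ IsMulCommutative S) (hL : IsLieTypeChar p S) (hπ : PiP P S) {A : Type} [CommGroup A]
    (hA : HasSchurMultiplier S A) (h4 : Nat.card A ∣ 12) {d a : ℕ} (k3 : Nat.card A ∣ d * p ^ a) (k4 : 0 < d)
    (k5 : d ≤ Nat.card P.Zc) (h : Two p S 12 1) : RowT p S := by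
  obtain ⟨π, k1, k2⟩ := hπ
  obtain ⟨F, X, ⟨s⟩, -⟩ := Dat.boxDat p _ _ k _ _ P hF lf _ (rho C k) (rho_inj C k) (fun g => by rw [hP]; exact rho_fr C p g)
    (rho_poly C p h2) ⟨_, rho_diag C p h2⟩ S hS hn π k1 k2 A d a hA k3 k4 k5
  exact row_sc hL s hA h4 h

theorem row_odd {m : ℕ} (hm : 3 ≤ m) (hodd : Odd (Fintype.card F)) (hS : IsSimpleGroup (POmega F (quadFormOdd m F)))
    (hn : ¬ IsMulCommutative (POmega F (quadFormOdd m F))) (hL : IsLieTypeChar p (POmega F (quadFormOdd m F))) :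
    RowT p (POmega F (quadFormOdd m F)) := by
  obtain ⟨f, -, hq⟩ := FiniteField.card F p
  have hp2 : p ≠ 2 := by
    rintro rfl
    rw [hq, Nat.odd_pow_iff f.pos.ne'] at hodd
    exact absurd hodd (by decide)
  let k := AlgebraicClosure F
  have h2 : (2 : k) ≠ 0 := fun e =>
    hp2 ((Nat.prime_dvd_prime_iff_eq hp.out Nat.prime_two).1 ((CharP.cast_eq_zero_iff k p 2).1 (by exact_mod_cast e)))
  let D := (cB m).rdat k p fun _ => h2
  let P := tw0 D f f.pos ((cB m).fr (frobenius k p)) ((cB m).fr_z p _ _) ((cB m).fr_y p _ _)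
  have hF : D.Fa := TE.fa_of_faith (boxB p hp2 m hm k _ D rfl).faith ⟨0, by omega⟩
  have hv : Vec D (fun b => b.1.1) ibB (cB m).th := by
    rw [show (fun b : PR m => b.1.1) = fun b => Sum.inl ((cB m).ia b) from funext fun b => (inl_ix b.lt).symm]
    exact (cB m).vec p _
  have hπ := (boxPi p m k _ F (algebraMap F k) _).1 hp2 hm D rfl hF hv P rfl hq
  have hz : 2 ≤ Nat.card P.Zc := by
    refine TE.le_card_Zc P (m := 2) Nat.prime_two (Pi.single ⟨m - 1, by omega⟩ 1) ⟨m - 1, by omega⟩ (by simp) (fun i => ?_)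
      fun _ => ⟨fun e => hp2 ((Nat.prime_dvd_prime_iff_eq hp.out Nat.prime_two).1 e), fun i => ?_⟩
    · rw [Finset.sum_eq_single ⟨m - 1, by omega⟩ (fun j _ hj => by simp [hj]) (by simp)]
      refine Dvd.dvd.mul_left ?_ _
      show _ ∣ rv (zc _) ⬝ᵥ _
      rw [rv_zc_dot, dif_neg (by simp only; omega)]
      exact dvd_mul_right _ _
    · rw [show P.sι i = i from rfl]
      conv_lhs => rw [← mul_one (Pi.single (M := fun _ => ℕ) _ _ _)]
      exact Nat.ModEq.mul_left _ (Nat.odd_iff.1 (hq ▸ hodd)).symm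
  by_cases h5 : m = 3 ∧ Fintype.card F = 3
  · obtain ⟨rfl, h5⟩ := h5
    exact row_cd (cB 3) (lf_closure F p) _ P rfl hF hS hn hL hπ (S2095.result h5) (by rw [card_cyc]; decide) (a := 1)
      (by rw [card_cyc, (Nat.prime_dvd_prime_iff_eq hp.out Nat.prime_three).1 (h5 ▸ pq p F)]; decide) two_pos hz (two_odd hodd hm)
  · exact row_cd (cB m) (lf_closure F p) _ P rfl hF hS hn hL hπ (S2094.result rfl hodd m hm h5) (by rw [card_cyc]; decide)
      (a := 0) (by rw [card_cyc, pow_zero, mul_one]) two_pos hz (two_odd hodd hm)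

theorem row_plus {m : ℕ} (hm : 4 ≤ m) (hS : IsSimpleGroup (POmega F (quadFormPlus m F)))
    (hn : ¬ IsMulCommutative (POmega F (quadFormPlus m F))) (hL : IsLieTypeChar p (POmega F (quadFormPlus m F))) :
    RowT p (POmega F (quadFormPlus m F)) := by
  obtain ⟨f, -, hq⟩ := FiniteField.card F p
  have h0 : Fintype.card F = 2 → p = 2 := fun h => (Nat.prime_dvd_prime_iff_eq hp.out Nat.prime_two).1 (h ▸ pq p F)
  by_cases h5 : m = 4 ∧ Fintype.card F = 2
  · obtain ⟨rfl, h5⟩ := h5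
    exact row_one hL (S2098.result h5) (a := 2) (by simp [h0 h5])
  obtain ⟨A, _, hA, k1, k2, k3⟩ := mult_plus hp.out (pq p F) hm h5
  by_cases h2 : p = 2
  · exact row_one hL hA (a := 2) (by rw [h2]; exact k2)
  have : Fact (2 ≤ m) := ⟨by omega⟩
  let k := AlgebraicClosure F
  let P := tD m k p f f.pos 1
  have hF : (dD m k p).Fa := TE.fa_of_faith (faithD (by omega) p k) (fst m)
  have hπ := ((boxPi p m k _ F (algebraMap F k) _).2 hm _ rfl hF vec_D P hq).1 rfl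
  refine row_cd (cD m) (lf_closure F p) _ P rfl hF hS hn hL hπ hA (k2.trans (by decide)) (a := 0) (by simp)
    (Nat.pos_of_dvd_of_pos k2 four_pos) ?_ (two_plus (mt h0 h2) hm)
  obtain ⟨z2, z4⟩ := Nm.card_Zc (D := dD m k p) rfl P h2 (by omega) (Or.inl rfl)
  by_cases h7 : m % 2 = 1 ∧ Fintype.card F % 4 = 3
  · exact (Nat.le_of_dvd two_pos (k3 h7)).trans z2
  · exact (Nat.le_of_dvd four_pos k2).trans (z4 (Or.inl ⟨rfl, by rw [hq] at h7; exact h7⟩))

theorem row_minus {m : ℕ} (hm : 4 ≤ m) {a b : F}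
    (hab : ∀ z₁ z₂ : F, z₁ ^ 2 + a * z₁ * z₂ + b * z₂ ^ 2 = 0 → z₁ = 0 ∧ z₂ = 0)
    (hS : IsSimpleGroup (POmega F (quadFormMinus (m - 1) F a b)))
    (hn : ¬ IsMulCommutative (POmega F (quadFormMinus (m - 1) F a b)))
    (hL : IsLieTypeChar p (POmega F (quadFormMinus (m - 1) F a b))) : RowT p (POmega F (quadFormMinus (m - 1) F a b)) := by
  obtain ⟨f, -, hq⟩ := FiniteField.card F p
  have hA := S2099.result rfl m hm a b hab
  by_cases h2 : p = 2
  · exact row_one hL hA (a := 2) (by rw [card_cyc, h2]; exact Nat.gcd_dvd_left _ _)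
  have : Fact (2 ≤ m) := ⟨by omega⟩
  let k := AlgebraicClosure F
  let P := tD m k p f f.pos ⟨gN m, Subgroup.mem_zpowers _⟩
  have hF : (dD m k p).Fa := TE.fa_of_faith (faithD (by omega) p k) (fst m)
  have hπ := ((boxPi p m k _ F (algebraMap F k) _).2 hm _ rfl hF vec_D P hq).2 rfl a b hab
  refine row_cd (cD m) (lf_closure F p) _ P rfl hF hS hn hL hπ hA
    (by rw [card_cyc]; exact (Nat.gcd_dvd_left _ _).trans (by decide)) (a := 0) (by rw [card_cyc, pow_zero, mul_one])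
    (Nat.gcd_pos_of_pos_left _ four_pos) ?_ (two_minus h2 hm hab)
  obtain ⟨z2, z4⟩ := Nm.card_Zc (D := dD m k p) rfl P h2 (by omega) (Or.inr rfl)
  rw [hq]
  by_cases h7 : m % 2 = 1 ∧ p ^ (f : ℕ) % 4 = 3
  · exact (Nat.le_of_dvd four_pos (Nat.gcd_dvd_left _ _)).trans (z4 (Or.inr ⟨rfl, h7⟩))
  · have h3 := Nm.pow_mod (m := m) (Nat.odd_iff.1 (hp.out.odd_of_ne_two h2).pow : p ^ (f : ℕ) % 2 = 1)
    rw [if_neg h7] at h3
    exact (Nat.le_of_dvd two_pos (Nm.gcd_dvd_two (by omega))).trans z2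

end BD

section E

open Cfsg.Lie Cfsg.Agent.KM.Sc

theorem eq_p {r a : ℕ} (hr : r.Prime) (h : Fintype.card F = r ^ a) : r = p :=
  ((Nat.prime_dvd_prime_iff_eq hp.out hr).1 (hp.out.dvd_of_dvd_pow (h ▸ pq p F))).symm

theorem row_G2 (h : 3 ≤ Fintype.card F) (hL : IsLieTypeChar p (chevG2.group F)) : RowT p (chevG2.group F) := by
  rcases (by omega : Fintype.card F = 3 ∨ Fintype.card F = 4 ∨ 5 ≤ Fintype.card F) with h | h | h
  · exact row_cyc hL (S2101.result h) (.inr (eq_p (a := 1) Nat.prime_three h))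
  · exact row_cyc hL (S2102.result h) (.inr (eq_p (a := 2) Nat.prime_two h))
  · exact row_cyc hL (S2100.result h) (.inl rfl)

theorem row_F4 (hL : IsLieTypeChar p (chevF4.group F)) : RowT p (chevF4.group F) := by
  rcases Nat.eq_or_lt_of_le (Fintype.one_lt_card (α := F)) with h | h
  · exact row_cyc hL (S2104.result h.symm) (.inr (eq_p (a := 1) Nat.prime_two h.symm))
  · exact row_cyc hL (S2103.result h) (.inl rfl)

theorem row_E6 (hL : IsLieTypeChar p (chevE6.group F)) : RowT p (chevE6.group F) := by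
  have hA := S2105.result (F := F) rfl
  by_cases h : 3 ∣ Fintype.card F - 1
  · obtain ⟨e, -, hF⟩ := FiniteField.card F p
    obtain ⟨k, _, _, _, X, t, h1, Y, _, N, _, _, ρ, G, X', θ, s, -⟩ := sc_E6 hF
    exact row_sc hL s hA (by rw [card_cyc]; exact (Nat.gcd_dvd_left _ _).trans (by decide)) (two_E6 h)
  · exact row_cyc hL hA (.inl (Nat.prime_three.coprime_iff_not_dvd.2 h))

theorem row_E7 (hL : IsLieTypeChar p (chevE7.group F)) : RowT p (chevE7.group F) := by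
  obtain ⟨e, -, hF⟩ := FiniteField.card F p
  obtain ⟨k, _, _, _, X, t, h1, Y, _, N, _, _, ρ, G, X', θ, s, -⟩ := sc_E7 hF
  exact row_sc hL s (S2106.result rfl) (by rw [card_cyc]; exact (Nat.gcd_dvd_left _ _).trans (by decide)) two_E7

theorem row_2E6 {q : ℕ} (hq : IsPrimePow q) (hF : Fintype.card F = q ^ 2) (hL : IsLieTypeChar p (twistedE6 F q)) :
    RowT p (twistedE6 F q) := by
  obtain ⟨d, -, hd⟩ := FiniteField.card F p
  obtain ⟨e, -, rfl⟩ := (Nat.dvd_prime_pow hp.out).1 (hd ▸ hF ▸ dvd_pow_self q two_ne_zero : q ∣ p ^ (d : ℕ))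
  obtain ⟨k, _, _, _, X, t, h1, Y, _, N, _, _, ρ, G, X', θ, s, -⟩ := sc_2E6 hF
  by_cases h2 : p ^ e = 2
  · have hA : HasSchurMultiplier (twistedE6 F (p ^ e)) (Multiplicative (ZMod 3 × ZMod 2 × ZMod 2)) := by
      rw [h2] at hF ⊢
      exact S2109.result hF
    exact row_sc hL s hA (by simp) (two_2E6 hq hF (by rw [h2]))
  have hA := S2108.result hq hF h2
  by_cases h : 3 ∣ p ^ e + 1
  · exact row_sc hL s hA (by rw [card_cyc]; exact (Nat.gcd_dvd_left _ _).trans (by decide)) (two_2E6 hq hF h)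
  · exact row_cyc hL hA (.inl (Nat.prime_three.coprime_iff_not_dvd.2 h))

end E

/-- **S4853 in the defining characteristic** -/
theorem lieT : For RowT KM.CLie := by
  intro p _ S _ _ _ hn hS
  have hL : ∀ {T : Type} [Group T], (S ≃* T) → IsLieTypeChar p T := fun e => OddHalf.Known.isLieTypeChar_congr e hS
  have hN : ∀ {T : Type} [Group T], (S ≃* T) → ¬ IsMulCommutative T := fun e => KM.BD.noncomm_of e hn
  rcases id hS with ⟨F, _, _, _, n, h1, h2, ⟨e⟩⟩ | ⟨F, _, _, _, n, h1, h2, ⟨e⟩⟩ | ⟨F, _, _, _, n, q, h1, h2, h3, ⟨e⟩⟩ |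
    ⟨F, _, _, _, n, h1, h2, ⟨e⟩⟩ | ⟨F, _, _, _, n, h1, ⟨e⟩⟩ | ⟨F, _, _, _, n, a, b, h1, h2, ⟨e⟩⟩ |
    ⟨F, _, _, _, ⟨h1, ⟨e⟩⟩ | ⟨⟨e⟩⟩ | ⟨⟨e⟩⟩ | ⟨⟨e⟩⟩ | ⟨⟨e⟩⟩⟩ | ⟨F, _, _, _, q, h1, ⟨h2, ⟨e⟩⟩ | ⟨h2, ⟨e⟩⟩⟩ |
    ⟨rfl, F, _, _, m, hm, hF, ⟨e⟩⟩ | ⟨-, F, _, _, m, hm, hF, ⟨e⟩⟩ | ⟨-, F, _, _, m, hm, hF, ⟨e⟩⟩ <;>
    refine RowX.of_equiv (X := XT) e ?_
  · rcases h1.eq_or_lt with rfl | h1
    · exact row_psl2
    · exact row_psl h1 (hL e)
  · exact row_psp h1 h2 (hL e)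
  · exact row_psu h1 h2 h3 (hL e)
  · exact row_odd h1 h2 e.symm.isSimpleGroup (hN e) (hL e)
  · exact row_plus h1 e.symm.isSimpleGroup (hN e) (hL e)
  · exact row_minus h1 h2 e.symm.isSimpleGroup (hN e) (hL e)
  · exact row_G2 h1 (hL e)
  · exact row_F4 (hL e)
  · exact row_E6 (hL e)
  · exact row_E7 (hL e)
  · exact row_cyc (hL e) S2107.result (.inl rfl)
  · exact row_2E6 h1 h2 (hL e)
  · exact row_cyc (hL e) (S2110.result h1 h2) (.inl rfl)
  · rcases hm.eq_or_lt with rfl | hm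
    · exact row_one (hL e) (S2112.result hF) (a := 2) (by simp)
    · exact row_cyc (hL e) (S2111.result hm hF) (.inl rfl)
  · exact row_cyc (hL e) (S2114.result hm hF) (.inl rfl)
  · exact row_cyc (hL e) (S2113.result hm hF) (.inl rfl)

end Cfsg.Agent.BZ.D3
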