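import Cfsg.Agent.BZ.D3.Abs
import Cfsg.Agent.KM.Uu.U
import Cfsg.Agent.KZ.Lie.Loc

/-!
# BZ, defining characteristic, two degrees: the input from the theory of Deligne and Lusztig (helper48)

`dlo : X.QS → Pi1 X 1 → DLo p (GF F G)`.
-/

set_option autoImplicit false
set_option linter.unusedSectionVars false

namespace Cfsg.Agent.BZ.D3

open Cfsg Subgroup Cfsg.Agent.Characters.Core Cfsg.Agent.DL Cfsg.Agent.DL.Asm Cfsg.Agent.DL.Uni Cfsg.Agent.DL.St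
  Cfsg.Agent.KZ.Lie Cfsg.Agent.Nodes.Reps Cfsg.Agent.TO.X.Cn

variable {p : ℕ} [hp : Fact p.Prime] {k : Type} [Field k] [CharP k p] {Y : Type} [Group Y] {N : Type} [Fintype N]
  [DecidableEq N] {ρ : Y →* GL N k} {F : MulAut Y} {G : Subgroup Y} [IsAlgClosed k] {X : Datum p ρ F G}

/-- a group of order prime to `p` is a torus -/
theorem le_T (X : Datum p ρ F G) (h : ¬ p ∣ Nat.card (GF F G)) : GF F G ≤ X.T := fun g hg => by
  have S := sys' X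
  have := S.finH
  obtain ⟨St, hS⟩ := stD X
  have h1 := hS.card_tori S
  rw [pc, Nat.factorization_eq_zero_of_not_dvd h, pow_zero, one_pow] at h1
  obtain ⟨T, hT, h2⟩ := S.toral hg fun e => h (e.trans (Subgroup.orderOf_dvd_natCard _ hg))
  have h3 : X.T ∈ Asm.tori X := ⟨1, one_mem _, (cj_one _).symm, X.map_T⟩
  exact Finset.card_le_one.1 h1.le _ (S.mem_tori.2 hT) _ (S.mem_tori.2 h3) ▸ h2

/-- regular elements -/
theorem mem_of_reg (h : Pi1 X 1) {T : Subgroup Y} (hT : T ∈ Asm.tori X) {y n : Y} (hy : y ∈ T ⊓ GF F G)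
    (h1 : ∀ u ∈ GF F G, orderOf u = p → u * y ≠ y * u) (hn : n ∈ GF F G) (hc : n * y = y * n) : n ∈ T := by
  obtain ⟨g, hg, rfl, h2⟩ := hT
  have hF := (X.stable_iff hg).1 h2
  have hZ : ({y} : Set Y) ⊆ (X.conj hg hF).T := Set.singleton_subset_iff.2 hy.1
  let E := (X.conj hg hF).sub hZ (fun a ha => (X.conj hg hF).g_mem_Sz hZ (fun z hz => by
    rw [hz, (mem_GF.1 hy.2).2]; rfl) ha) rfl
  have := E.amb.finite_GF ((X.conj hg hF).cen {y})
  refine le_T E (fun e => ?_) ⟨mem_cen (h.conj hg hF) hy.1 (pow_orderOf_eq_one y) (Nat.coprime_one_right _) hn.1 hc, hn.2⟩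
  obtain ⟨u, hu⟩ := exists_prime_orderOf_dvd_card' p e
  exact h1 u ⟨(X.conj hg hF).cen_le_G _ u.2.1, u.2.2⟩ ((orderOf_coe u).trans hu)
    (mem_centralizer_singleton_iff.1 ((X.conj hg hF).cen_le_centralizer hZ u.2.1))

/-- extension of a character of a central subgroup -/
theorem exists_ext {A : Type} [Group A] [Finite A] {Z T : Subgroup A} (hc : ∀ a ∈ T, ∀ b ∈ T, a * b = b * a) (h : Z ≤ T)
    (ν : Z →* ℂˣ) {x : A} (hx : x ∈ T) (h1 : x ∉ Z) : ∃ θ : T →* ℂˣ, (∀ z : Z, θ ⟨z, h z.2⟩ = ν z) ∧ θ ⟨x, hx⟩ ≠ 1 := by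
  obtain ⟨θ, hθ⟩ := exists_ext_lin hc h ν
  by_cases e : θ ⟨x, hx⟩ = 1
  swap
  · exact ⟨θ, hθ, e⟩
  letI : CommGroup T := { mul_comm := fun a b => Subtype.ext (hc a a.2 b b.2) }
  obtain ⟨μ, hμ⟩ := CommGroup.exists_apply_ne_one_of_hasEnoughRootsOfUnity (T ⧸ Z.subgroupOf T) ℂ
    (a := QuotientGroup.mk ⟨x, hx⟩) fun e => h1 ((QuotientGroup.eq_one_iff (⟨x, hx⟩ : T)).1 e)
  refine ⟨θ * μ.comp (QuotientGroup.mk' _), fun z => ?_, by rwa [MonoidHom.mul_apply, e, one_mul]⟩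
  rw [MonoidHom.mul_apply, hθ, MonoidHom.comp_apply, QuotientGroup.mk'_apply,
    (QuotientGroup.eq_one_iff (⟨z, h z.2⟩ : T)).2 z.2, map_one, mul_one]

theorem cen_le {T : Subgroup Y} (hT : T ∈ Asm.tori X) : center (GF F G) ≤ T.subgroupOf (GF F G) := fun z hz => by
  obtain ⟨St, hS⟩ := stD X
  exact hS.central_mem (sys' X) z.2 (fun g hg => congrArg Subtype.val (mem_center_iff.1 hz ⟨g, hg⟩)) T hT

theorem card_sub (T H : Subgroup Y) : Nat.card (T.subgroupOf H) = Nat.card ↥(T ⊓ H) := by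
  rw [← inf_subgroupOf_right, Nat.card_congr (subgroupOfEquivOfLe inf_le_right).toEquiv]

/-- **characters in general position** -/
theorem gp (h : Pi1 X 1) {r : ℕ} (hr : r.Prime) (rp : r ≠ p) (h1 : NoE (GF F G) (r * p)) (x : GF F G) (hx : orderOf x = r)
    (Z : Subgroup (GF F G)) (hZ : Z ≤ center _) (h2 : x ∉ Z) (ν : Z →* ℂˣ) : ∃ χ, IsIrrCharacter (GF F G) χ ∧ Ov Z ν χ ∧
      charDegree χ * Nat.card (centralizer ({x} : Set (GF F G))) = ordCompl[p] (Nat.card (GF F G)) := by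
  have S := sys' X
  have := S.finH
  have := Fact.mk hr
  obtain ⟨St, hS⟩ := stD X
  obtain ⟨T, hT, h3⟩ := S.toral x.2 fun e => rp (by
    rw [orderOf_coe, hx] at e
    exact ((Nat.prime_dvd_prime_iff_eq hp.out hr).1 e).symm)
  have h4 : ∀ y ∈ T ⊓ GF F G, orderOf y = r → ∀ n ∈ GF F G, n * y = y * n → n ∈ T := fun y hy ho n hn =>
    mem_of_reg h hT hy (fun u hu hu' e => h1 (⟨y, hy.2⟩ * ⟨u, hu⟩) (by
      rw [← orderOf_coe, coe_mul, Commute.orderOf_mul_eq_mul_orderOf_of_coprime e.symm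
        (by rw [ho, hu']; exact (Nat.coprime_primes hr hp.out).2 rp), ho, hu'])) hn
  obtain ⟨θ, h5, h6⟩ := exists_ext (T := T.subgroupOf (GF F G))
    (fun a ha b hb => Subtype.ext (S.comm T hT a ⟨ha, a.2⟩ b ⟨hb, b.2⟩)) (hZ.trans (cen_le hT)) ν h3 h2
  let κ : ↥(T ⊓ GF F G) →* T.subgroupOf (GF F G) := (inclusion inf_le_right).codRestrict _ fun t => t.2.1
  have h7 := isLin_lin (θ.comp κ)
  obtain ⟨χ, d, a1, a2, a3, a4, -⟩ := hS.exists_irr S hT h7 fun n hn hc => by_contra fun a0 => h6 (by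
    have b1 : ∀ t ∈ T ⊓ GF F G, n * t * n⁻¹ ∈ T ⊓ GF F G := fun t ht =>
      mem_inf.2 ⟨hc.1 ▸ conj_mem_cj.2 ht.1, mul_mem (mul_mem hn ht.2) (inv_mem hn)⟩
    let R := {t : Y // t ∈ T ⊓ GF F G ∧ t ^ r = 1}
    have : Finite R := Finite.of_injective (fun t : R => (⟨t.1, t.2.1.2⟩ : GF F G)) fun a b e =>
      Subtype.ext (Subtype.ext_iff.1 e :)
    let φ : R → R := fun t => ⟨n * t.1 * n⁻¹ * t.1⁻¹, mul_mem (b1 _ t.2.1) (inv_mem t.2.1), by
      rw [Commute.mul_pow (S.comm T hT _ (b1 _ t.2.1) _ (inv_mem t.2.1)), conj_pow, inv_pow, t.2.2]; simp⟩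
    have b2 : Function.Injective φ := fun a b e => by
      have c1 : n * a.1 * n⁻¹ * a.1⁻¹ = n * b.1 * n⁻¹ * b.1⁻¹ := congrArg Subtype.val e
      have c2 := S.comm T hT _ (inv_mem b.2.1) _ a.2.1
      by_contra c3
      refine a0 (h4 _ (mul_mem (inv_mem b.2.1) a.2.1) (orderOf_eq_prime ?_ fun c4 => c3 (Subtype.ext ?_)) n hn ?_)
      · rw [Commute.mul_pow c2, inv_pow, a.2.2, b.2.2, inv_one, one_mul]
      · exact (inv_mul_eq_one.1 c4).symm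
      · calc n * (b.1⁻¹ * a.1) = n * b.1⁻¹ * n⁻¹ * (n * a.1 * n⁻¹ * a.1⁻¹) * a.1 * n := by group
          _ = _ := by rw [c1]; group
    obtain ⟨t, ht⟩ := Finite.surjective_of_injective b2 ⟨x, ⟨h3, x.2⟩, by rw [← hx, ← coe_pow, pow_orderOf_eq_one]; rfl⟩
    have b3 : n * t * n⁻¹ = x * t := by rw [← show n * t.1 * n⁻¹ * t.1⁻¹ = (x : Y) from congrArg Subtype.val ht]; group
    have b4 := hc.2 t t.2.1
    rw [b3, h7.mul _ ⟨h3, x.2⟩ _ t.2.1, lin_apply _ t.2.1, mul_eq_right₀ (Units.ne_zero _), lin_apply _ (mem_inf.2 ⟨h3, x.2⟩)] at b4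
    exact Units.val_eq_one.1 b4)
  refine ⟨χ, a1, fun z => ?_, ?_⟩
  · rw [a4 z (hZ z.2), lin_apply (k := z.1.1) _ (mem_inf.2 ⟨cen_le hT (hZ z.2), z.1.2⟩), ← h5]
    rfl
  · rw [H672.charDegree_of_eq a2, show centralizer {x} = T.subgroupOf (GF F G) from ?_, card_sub, a3, pc']
    ext g
    rw [mem_centralizer_singleton_iff]
    exact ⟨fun e => h4 x ⟨h3, x.2⟩ ((orderOf_coe x).trans hx) g g.2 (congrArg Subtype.val e),
      fun e => Subtype.ext (S.comm T hT g ⟨e, g.2⟩ x ⟨h3, x.2⟩)⟩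

/-- **the degrees of the constituents** -/
theorem tw (hq : X.QS) (y : GF F G) (hy : ¬ p ∣ orderOf y) : ∃ T : Subgroup (GF F G), y ∈ T ∧ center _ ≤ T ∧
    ¬ p ∣ Nat.card T ∧ ∀ Z : Subgroup (GF F G), Z ≤ center _ → ∀ ν : Z →* ℂˣ, ∃ χ, IsIrrCharacter (GF F G) χ ∧ Ov Z ν χ ∧
      ¬ p ∣ charDegree χ ∧ charDegree χ * Nat.card T ∣ Nat.card (GF F G) := by
  have S := sys' X
  have := S.finH
  have := Fintype.ofFinite (GF F G)
  obtain ⟨St, hS⟩ := stD X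
  obtain ⟨f⟩ := nonempty_fr X
  obtain ⟨T, hT, h3⟩ := S.toral y.2 (by rwa [IsSs, orderOf_coe])
  refine ⟨T.subgroupOf _, h3, cen_le hT, fun e => not_dvd_pc' (p := p) (GF F G) ?_, fun Z hZ ν => ?_⟩
  · exact (card_sub T _ ▸ e).trans (hS.card_dvd S hT)
  have := S.finT T
  have := Fintype.ofFinite (↥(T ⊓ GF F G) →* ℂˣ)
  have h4 : ∀ z ∈ center (GF F G), (∑ θ : ↥(T ⊓ GF F G) →* ℂˣ, res (GF F G) (R X T (lin θ))) z =
      eps (GF F G) (R X) St T * pc' p (GF F G) * dl 1 (z : Y) := fun z hz => by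
    rw [Finset.sum_apply]
    simp only [res]
    rw [Finset.sum_congr rfl fun θ _ => hS.R_central S z.2
      (fun g hg => congrArg Subtype.val (mem_center_iff.1 hz ⟨g, hg⟩)) hT (lin θ), ← Finset.sum_mul,
      sum_lin (S.comm T hT) z.1 (mem_inf.2 ⟨cen_le hT hz, z.2⟩), hS.degree S hT, Pi.one_apply]
    have := S.cardT_ne T
    generalize (Nat.card ↥(T ⊓ GF F G) : ℂ) = c at this
    field_simp
  obtain ⟨m, h5, h6⟩ : ∃ m : ℤ, eps (GF F G) (R X) St T * pc' p (GF F G) = m ∧ ¬ (p : ℤ) ∣ m := by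
    have h5 := mt Int.natCast_dvd_natCast.1 (not_dvd_pc' (p := p) (GF F G))
    rcases hS.eps_sign S hT with e | e <;> rw [e]
    · exact ⟨_, by simp, h5⟩
    · exact ⟨-_, by simp, mt Int.dvd_neg.1 h5⟩
  obtain ⟨χ, a1, a2, a3, a4⟩ := exists_ov (p := p) hZ ν
    (Ψ := ∑ θ : ↥(T ⊓ GF F G) →* ℂˣ, res (GF F G) (R X T (lin θ))) 
    (OddOrderCharacters.CoherenceBasic.gen_sum _ fun θ _ => S.gen T hT _ (isLin_lin θ))
    (fun z hz h => by rw [h4 z (hZ hz), dl_ne (t := 1) fun e => h (Subtype.ext e), mul_zero])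
    (by rw [h4 1 (one_mem _), h5, coe_one, dl_self, mul_one]) h6
  refine ⟨χ, a1, a2, a3, ?_⟩
  obtain ⟨g, hg, w, hw, rfl⟩ := PP.exists_y hT
  rw [card_sub, X.card_cj_TF hg hw]
  refine KM.Uu.dvd_all hq f a1 ?_
  rwa [← sum_lab f hg hw (classInner χ) (classInner_zero_right χ), ← classInner_sum_right]

theorem dlo (hq : X.QS) (h : Pi1 X 1) : DLo p (GF F G) := ⟨fun _ hr rp h1 => gp h hr rp h1, tw hq⟩

end Cfsg.Agent.BZ.D3
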